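import Mathlib

/-!
# Artin–Schreier generators of cyclic extensions of degree `p` in characteristic `p`
-/

set_option autoImplicit false
set_option linter.unusedSectionVars false
set_option linter.unusedVariables false
set_option linter.style.haveILetI false
set_option maxHeartbeats 400000

noncomputable section

namespace Groth.Agent.Lib.Helper6.ASNF

open Polynomial

section Field

variable (p : ℕ) [hp : Fact p.Prime] (F E : Type*) [Field F] [Field E] [Algebra F E]

/-- powers of an algebra automorphism as linear maps -/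
lemma toLinearMap_pow (σ : E ≃ₐ[F] E) (n : ℕ) :
    (σ.toLinearMap : Module.End F E) ^ n = (σ ^ n).toLinearMap := by
  induction n with
  | zero => rfl
  | succ n ih =>
    rw [pow_succ, ih, pow_succ]
    rfl

/-- A Galois extension of degree `p` in characteristic `p` has an Artin–Schreier generator. -/
theorem exists_AS_generator [CharP F p] [IsGalois F E] (hdeg : Module.finrank F E = p) :
    ∃ (x : E) (β : F), x ^ p - x = algebraMap F E β ∧ x ∉ Set.range (algebraMap F E) := by
  have hpp : p.Prime := hp.out
  haveI : FiniteDimensional F E :=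
    Module.finite_of_finrank_pos (by rw [hdeg]; exact hpp.pos)
  haveI : CharP E p := charP_of_injective_algebraMap (algebraMap F E).injective p
  have hcard : Nat.card (E ≃ₐ[F] E) = p := by rw [IsGalois.card_aut_eq_finrank, hdeg]
  haveI : Finite (E ≃ₐ[F] E) := Nat.finite_of_card_ne_zero (by rw [hcard]; exact hpp.ne_zero)
  haveI : Nontrivial (E ≃ₐ[F] E) :=
    Finite.one_lt_card_iff_nontrivial.mp (by rw [hcard]; exact hpp.one_lt)
  obtain ⟨σ, hσ⟩ := exists_ne (1 : E ≃ₐ[F] E)
  have htop : Subgroup.zpowers σ = ⊤ := zpowers_eq_top_of_prime_card hcard hσ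
  have hord : σ ^ p = 1 := by
    have h1 : orderOf σ ∣ p := hcard ▸ orderOf_dvd_natCard σ
    exact orderOf_dvd_iff_pow_eq_one.mp h1
  -- elements fixed by `σ` lie in `F`
  have hfix : ∀ z : E, σ z = z → z ∈ Set.range (algebraMap F E) := by
    intro z hz
    have h1 : ∀ τ : E ≃ₐ[F] E, τ z = z := by
      intro τ
      have h2 : τ ∈ Subgroup.zpowers σ := htop ▸ Subgroup.mem_top τ
      have h3 : Subgroup.zpowers σ ≤ MulAction.stabilizer (E ≃ₐ[F] E) z := by
        rw [Subgroup.zpowers_le]
        exact hz
      exact h3 h2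
    have h4 : z ∈ (⊥ : IntermediateField F E) := (IsGalois.mem_bot_iff_fixed z).mpr h1
    exact IntermediateField.mem_bot.mp h4
  -- the nilpotent operator `N = σ - 1`
  set N : Module.End F E := σ.toLinearMap - 1 with hN
  have hNp : N ^ p = 0 := by
    haveI : CharP F[X] p := inferInstance
    have h1 : ((X : F[X]) - 1) ^ p = X ^ p - 1 := by
      rw [sub_pow_char, one_pow]
    have h2 := congrArg (aeval (σ.toLinearMap : Module.End F E)) h1
    rw [map_pow, map_sub, map_sub, map_pow, aeval_X, map_one, toLinearMap_pow, hord] at h2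
    rw [hN, h2]
    exact sub_self _
  have hNapp : ∀ z : E, N z = σ z - z := fun z => rfl
  -- an element with `N w ≠ 0`
  obtain ⟨w₀, hw₀⟩ : ∃ w₀ : E, N w₀ ≠ 0 := by
    by_contra hcon
    push Not at hcon
    apply hσ
    ext z
    have := hcon z
    rw [hNapp, sub_eq_zero] at this
    exact this
  -- the last nonzero iterate
  have hex : ∃ k : ℕ, (N ^ k) (N w₀) = 0 := ⟨p, by rw [hNp]; rfl⟩
  classical
  set k := Nat.find hex with hk
  have hk0 : k ≠ 0 := by
    intro h0
    have h1 := Nat.find_spec hex
    rw [← hk, h0, pow_zero] at h1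
    exact hw₀ h1
  obtain ⟨j, hj⟩ : ∃ j, k = j + 1 := ⟨k - 1, by omega⟩
  have hz0 : (N ^ j) (N w₀) ≠ 0 := Nat.find_min hex (by omega : j < Nat.find hex)
  have hz1 : N ((N ^ j) (N w₀)) = 0 := by
    have h1 := Nat.find_spec hex
    rw [← hk, hj, pow_succ'] at h1
    exact h1
  have hzfix : σ ((N ^ j) (N w₀)) = (N ^ j) (N w₀) := by
    rw [hNapp, sub_eq_zero] at hz1
    exact hz1
  obtain ⟨c, hc⟩ := hfix _ hzfix
  have hc0 : c ≠ 0 := by
    rintro rfl
    rw [map_zero] at hc
    exact hz0 hc.symm
  -- `z = N w` with `w = N^j w₀`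
  have hzw : (N ^ j) (N w₀) = N ((N ^ j) w₀) := by
    have h1 : N ^ j * N = N * N ^ j := (pow_succ N j).symm.trans (pow_succ' N j)
    exact congrArg (fun f : Module.End F E => f w₀) h1
  set x : E := c⁻¹ • (N ^ j) w₀ with hx
  have hNx : N x = 1 := by
    rw [hx, map_smul, ← hzw, ← hc, Algebra.smul_def, ← map_mul, inv_mul_cancel₀ hc0, map_one]
  have hσx : σ x = x + 1 := by
    rw [hNapp] at hNx
    rw [← hNx]
    ring
  have hfixp : σ (x ^ p - x) = x ^ p - x := by
    rw [map_sub, map_pow, hσx, add_pow_char, one_pow]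
    ring
  obtain ⟨β, hβ⟩ := hfix _ hfixp
  refine ⟨x, β, hβ.symm, ?_⟩
  rintro ⟨a, ha⟩
  have h1 : σ x = x := by rw [← ha, AlgEquiv.commutes]
  rw [hσx] at h1
  exact one_ne_zero (add_eq_left.mp h1)

/-- In a degree-`p` extension every element outside the base field generates. -/
theorem adjoin_eq_top_of_notMem_range (hdeg : Module.finrank F E = p) (x : E)
    (hx : x ∉ Set.range (algebraMap F E)) :
    IntermediateField.adjoin F ({x} : Set E) = ⊤ := by
  haveI : IsSimpleOrder (IntermediateField F E) :=
    IntermediateField.isSimpleOrder_of_finrank_prime F E (hdeg ▸ hp.out)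
  rcases eq_bot_or_eq_top (IntermediateField.adjoin F ({x} : Set E)) with h | h
  · exfalso
    apply hx
    have h1 : x ∈ IntermediateField.adjoin F ({x} : Set E) :=
      IntermediateField.mem_adjoin_simple_self F x
    rw [h] at h1
    exact IntermediateField.mem_bot.mp h1
  · exact h

end Field

end Groth.Agent.Lib.Helper6.ASNF
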