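import Mathlib

/-!
# Reduction of Laurent series modulo Artin–Schreier elements `y ^ p - y`
-/

set_option autoImplicit false
set_option linter.unusedSectionVars false
set_option linter.unusedVariables false
set_option linter.style.haveILetI false
set_option maxHeartbeats 400000

noncomputable section

namespace Groth.Agent.Lib.Helper6.ASNF

variable (p : ℕ) [hp : Fact p.Prime] (K : Type*) [Field K] [CharP K p]

lemma charP_powerSeries : CharP (PowerSeries K) p :=
  charP_of_injective_ringHom (PowerSeries.C_injective (R := K)) p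

lemma charP_fractionRing : CharP (FractionRing (PowerSeries K)) p :=
  haveI := charP_powerSeries p K
  charP_of_injective_algebraMap
    (IsFractionRing.injective (PowerSeries K) (FractionRing (PowerSeries K))) p

/-- Power series without constant term are of the form `y ^ p - y`. -/
theorem hensel_AS (b : PowerSeries K) (hb : PowerSeries.constantCoeff b = 0) :
    ∃ y : PowerSeries K, y ^ p - y = b := by
  haveI := charP_powerSeries p K
  haveI : HenselianRing (PowerSeries K) (Ideal.span {(PowerSeries.X : PowerSeries K)}) :=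
    IsAdicComplete.henselianRing _ _
  set f : Polynomial (PowerSeries K) :=
    Polynomial.X ^ p - (Polynomial.X + Polynomial.C b) with hf
  have hmon : f.Monic := by
    apply Polynomial.monic_X_pow_sub
    have h1 : (Polynomial.X + Polynomial.C b : Polynomial (PowerSeries K)).degree ≤ 1 := by
      refine (Polynomial.degree_add_le _ _).trans (max_le Polynomial.degree_X_le ?_)
      exact Polynomial.degree_C_le.trans zero_le_one
    refine lt_of_le_of_lt h1 ?_
    exact_mod_cast hp.out.one_lt
  have h0 : Polynomial.eval 0 f ∈ Ideal.span {(PowerSeries.X : PowerSeries K)} := by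
    have h1 : Polynomial.eval 0 f = -b := by
      simp [hf, zero_pow hp.out.ne_zero]
    rw [h1, Ideal.neg_mem_iff, Ideal.mem_span_singleton]
    exact PowerSeries.X_dvd_iff.mpr hb
  have h1 : IsUnit ((Ideal.Quotient.mk (Ideal.span {(PowerSeries.X : PowerSeries K)}))
      (Polynomial.eval 0 (Polynomial.derivative f))) := by
    have h2 : Polynomial.eval 0 (Polynomial.derivative f) = -1 := by
      simp [hf, Polynomial.derivative_X_pow, CharP.cast_eq_zero]
    rw [h2, map_neg, map_one]
    exact (isUnit_one : IsUnit (1 : PowerSeries K ⧸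
      Ideal.span {(PowerSeries.X : PowerSeries K)})).neg
  obtain ⟨a, ha, -⟩ := HenselianRing.is_henselian f hmon 0 h0 h1
  refine ⟨a, ?_⟩
  have h2 : Polynomial.eval a f = 0 := ha
  simp only [hf, Polynomial.eval_sub, Polynomial.eval_pow, Polynomial.eval_X, Polynomial.eval_add,
    Polynomial.eval_C] at h2
  linear_combination h2

/-- Every element of the fraction field is a power series divided by a power of `X`. -/
theorem exists_repr (α : FractionRing (PowerSeries K)) :
    ∃ (a : PowerSeries K) (m : ℕ), α = algebraMap (PowerSeries K) (FractionRing (PowerSeries K)) a /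
      algebraMap (PowerSeries K) (FractionRing (PowerSeries K)) PowerSeries.X ^ m := by
  obtain ⟨a, s, rfl⟩ := IsLocalization.exists_mk'_eq (nonZeroDivisors (PowerSeries K)) α
  have hs0 : (s : PowerSeries K) ≠ 0 := nonZeroDivisors.coe_ne_zero s
  obtain ⟨u, hu⟩ := PowerSeries.isUnit_divided_by_X_pow_order hs0
  obtain ⟨m, hdec⟩ : ∃ m : ℕ, (PowerSeries.X : PowerSeries K) ^ m * (u : PowerSeries K) =
      (s : PowerSeries K) := by
    refine ⟨(s : PowerSeries K).order.toNat, ?_⟩
    rw [hu]
    exact PowerSeries.X_pow_order_mul_divXPowOrder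
  refine ⟨a * ((u⁻¹ : (PowerSeries K)ˣ) : PowerSeries K), m, ?_⟩
  have hX0 : algebraMap (PowerSeries K) (FractionRing (PowerSeries K)) PowerSeries.X ≠ 0 := by
    intro h
    exact PowerSeries.X_ne_zero
      (IsFractionRing.injective (PowerSeries K) (FractionRing (PowerSeries K))
        (by rw [h, map_zero]))
  have hu0 : algebraMap (PowerSeries K) (FractionRing (PowerSeries K)) (u : PowerSeries K) ≠ 0 := by
    intro h
    have h1 := IsFractionRing.injective (PowerSeries K) (FractionRing (PowerSeries K))
      (h.trans (map_zero _).symm)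
    exact u.ne_zero h1
  have hinv : algebraMap (PowerSeries K) (FractionRing (PowerSeries K))
      ((u⁻¹ : (PowerSeries K)ˣ) : PowerSeries K) =
      (algebraMap (PowerSeries K) (FractionRing (PowerSeries K)) (u : PowerSeries K))⁻¹ := by
    apply eq_inv_of_mul_eq_one_left
    rw [← map_mul, Units.inv_mul, map_one]
  rw [IsFractionRing.mk'_eq_div, ← hdec, map_mul, map_mul, map_pow, hinv]
  field_simp

/-- The two admissible shapes of the reduced element. -/
def Good (α : FractionRing (PowerSeries K)) : Prop :=
  (∃ c : K, α = algebraMap (PowerSeries K) (FractionRing (PowerSeries K)) (PowerSeries.C c)) ∨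
  (∃ (m : ℕ) (a : PowerSeries K), 0 < m ∧ ¬ p ∣ m ∧ PowerSeries.constantCoeff a ≠ 0 ∧
    α = algebraMap (PowerSeries K) (FractionRing (PowerSeries K)) a /
      algebraMap (PowerSeries K) (FractionRing (PowerSeries K)) PowerSeries.X ^ m)

theorem reduce [PerfectField K] (m : ℕ) : ∀ a : PowerSeries K,
    ∃ y : FractionRing (PowerSeries K),
      Good p K (algebraMap (PowerSeries K) (FractionRing (PowerSeries K)) a /
        algebraMap (PowerSeries K) (FractionRing (PowerSeries K)) PowerSeries.X ^ m -
          (y ^ p - y)) := by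
  haveI := charP_fractionRing p K
  set ι := algebraMap (PowerSeries K) (FractionRing (PowerSeries K)) with hι
  have hT0 : ι PowerSeries.X ≠ 0 := by
    intro h
    exact PowerSeries.X_ne_zero
      (IsFractionRing.injective (PowerSeries K) (FractionRing (PowerSeries K))
        (by rw [h, map_zero]))
  induction m with
  | zero =>
    intro a
    have hb : PowerSeries.constantCoeff (a - PowerSeries.C (PowerSeries.constantCoeff a)) = 0 := by
      rw [map_sub, PowerSeries.constantCoeff_C, sub_self]
    obtain ⟨y₀, hy₀⟩ := hensel_AS p K _ hb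
    refine ⟨ι y₀, Or.inl ⟨PowerSeries.constantCoeff a, ?_⟩⟩
    rw [pow_zero, div_one, ← map_pow, ← map_sub, ← map_sub, hy₀, sub_sub_cancel]
  | succ n ih =>
    intro a
    by_cases h0 : PowerSeries.constantCoeff a = 0
    · obtain ⟨a₁, rfl⟩ := PowerSeries.X_dvd_iff.mpr h0
      obtain ⟨y, hy⟩ := ih a₁
      refine ⟨y, ?_⟩
      have h1 : ι (PowerSeries.X * a₁) / ι PowerSeries.X ^ (n + 1) =
          ι a₁ / ι PowerSeries.X ^ n := by
        rw [map_mul, pow_succ', mul_div_mul_left _ _ hT0]
      rw [h1]
      exact hy
    · by_cases hpd : p ∣ n + 1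
      · obtain ⟨m₁, hm₁⟩ := hpd
        have hm₁pos : 0 < m₁ := by
          rcases Nat.eq_zero_or_pos m₁ with h | h
          · rw [h, mul_zero] at hm₁
            omega
          · exact h
        have hm₁lt : m₁ < n + 1 := by
          rw [hm₁]
          have := hp.out.two_le
          nlinarith
        obtain ⟨d, hd⟩ : ∃ d : K, d ^ p = PowerSeries.constantCoeff a :=
          surjective_frobenius K p (PowerSeries.constantCoeff a)
        set a₂ : PowerSeries K := a - PowerSeries.C (PowerSeries.constantCoeff a) +
          PowerSeries.C d * PowerSeries.X ^ (n + 1 - m₁) with ha₂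
        have h2 : PowerSeries.constantCoeff a₂ = 0 := by
          rw [ha₂, map_add, map_sub, PowerSeries.constantCoeff_C, sub_self, map_mul, map_pow,
            PowerSeries.constantCoeff_X, zero_pow (by omega), mul_zero, add_zero]
        obtain ⟨a₃, ha₃⟩ := PowerSeries.X_dvd_iff.mpr h2
        obtain ⟨y₂, hy₂⟩ := ih a₃
        set y₁ : FractionRing (PowerSeries K) := ι (PowerSeries.C d) / ι PowerSeries.X ^ m₁ with hy₁
        refine ⟨y₁ + y₂, ?_⟩
        have e4 : ι PowerSeries.X ^ (n + 1) =
            ι PowerSeries.X ^ m₁ * ι PowerSeries.X ^ (n + 1 - m₁) := by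
          rw [← pow_add]
          congr 1
          omega
        have e1 : y₁ ^ p = ι (PowerSeries.C (PowerSeries.constantCoeff a)) /
            ι PowerSeries.X ^ (n + 1) := by
          rw [hy₁, div_pow, ← map_pow, ← map_pow, hd, ← pow_mul, mul_comm m₁ p, ← hm₁]
        have e5 : y₁ = ι (PowerSeries.C d) * ι PowerSeries.X ^ (n + 1 - m₁) /
            ι PowerSeries.X ^ (n + 1) := by
          rw [hy₁, e4, mul_div_mul_right _ _ (pow_ne_zero _ hT0)]
        have e2 : ι a₃ / ι PowerSeries.X ^ n = ι a₂ / ι PowerSeries.X ^ (n + 1) := by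
          rw [ha₃, map_mul, pow_succ', mul_div_mul_left _ _ hT0]
        have e3 : ι a₂ = ι a - ι (PowerSeries.C (PowerSeries.constantCoeff a)) +
            ι (PowerSeries.C d) * ι PowerSeries.X ^ (n + 1 - m₁) := by
          rw [ha₂, map_add, map_sub, map_mul, map_pow]
        have key : ι a / ι PowerSeries.X ^ (n + 1) - ((y₁ + y₂) ^ p - (y₁ + y₂)) =
            ι a₃ / ι PowerSeries.X ^ n - (y₂ ^ p - y₂) := by
          rw [add_pow_char, e2, e3, e1, e5]
          ring
        rw [key]
        exact hy₂
      · refine ⟨0, Or.inr ⟨n + 1, a, Nat.succ_pos n, hpd, h0, ?_⟩⟩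
        rw [zero_pow hp.out.ne_zero, sub_zero, sub_zero]

end Groth.Agent.Lib.Helper6.ASNF
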