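import Mathlib
import Groth.Agent.Lib.Helper6.ASNF.AS1
import Groth.Agent.Lib.Helper6.ASNF.AS2

/-!
# Artin–Schreier normal form for totally ramified degree-`p` extensions of `K((t))`
-/

set_option autoImplicit false
set_option linter.unusedSectionVars false
set_option linter.unusedVariables false
set_option linter.style.haveILetI false
set_option maxHeartbeats 800000

noncomputable section

namespace Groth.Agent.Lib.Helper6.ASNF

attribute [local instance] FractionRing.liftAlgebra

universe u

variable (p : ℕ) [hp : Fact p.Prime] (K : Type u) [Field K] [CharP K p]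
  (B : Type u) [CommRing B] [IsDedekindDomain B]
  [Algebra (PowerSeries K) B] [Module.Finite (PowerSeries K) B]
  [Module.IsTorsionFree (PowerSeries K) B]

/-- An Artin–Schreier equation with constant right-hand side cannot define a totally ramified
extension. -/
theorem no_constant
    (hdeg : Module.finrank (FractionRing (PowerSeries K)) (FractionRing B) = p)
    (M : Ideal B) [M.IsMaximal] (hram : M.ramificationIdx (PowerSeries K) = p)
    (x : FractionRing B) (c : K)
    (hx : x ^ p - x + algebraMap (FractionRing (PowerSeries K)) (FractionRing B)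
      (algebraMap (PowerSeries K) (FractionRing (PowerSeries K)) (PowerSeries.C c)) = 0)
    (hxF : x ∉ Set.range (algebraMap (FractionRing (PowerSeries K)) (FractionRing B))) :
    False := by
  have hpp : p.Prime := hp.out
  haveI hcA := charP_powerSeries p K
  haveI hcF := charP_fractionRing p K
  haveI : FiniteDimensional (FractionRing (PowerSeries K)) (FractionRing B) :=
    Module.finite_of_finrank_pos (by rw [hdeg]; exact hpp.pos)
  set ι := algebraMap (PowerSeries K) (FractionRing (PowerSeries K)) with hι
  set φ := algebraMap (FractionRing (PowerSeries K)) (FractionRing B) with hφ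
  -- Step 1: the Artin–Schreier polynomial is the minimal polynomial of `x`
  set g : Polynomial (FractionRing (PowerSeries K)) :=
    Polynomial.X ^ p - (Polynomial.X - Polynomial.C (ι (PowerSeries.C c))) with hg
  have hgdeg : g.natDegree = p := by
    rw [hg, Polynomial.natDegree_sub_eq_left_of_natDegree_lt, Polynomial.natDegree_X_pow]
    rw [Polynomial.natDegree_X_sub_C, Polynomial.natDegree_X_pow]
    exact hpp.one_lt
  have hgmon : g.Monic := by
    apply Polynomial.monic_X_pow_sub
    rw [Polynomial.degree_X_sub_C]
    exact_mod_cast hpp.one_lt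
  have hgx : Polynomial.aeval x g = 0 := by
    rw [hg, map_sub, map_pow, Polynomial.aeval_X, map_sub, Polynomial.aeval_X, Polynomial.aeval_C]
    rw [← hx]
    ring
  have hint : IsIntegral (FractionRing (PowerSeries K)) x := Algebra.IsIntegral.isIntegral x
  have hmin : g = minpoly (FractionRing (PowerSeries K)) x := by
    have h1 : minpoly (FractionRing (PowerSeries K)) x ∣ g := minpoly.dvd _ x hgx
    have h2 : (minpoly (FractionRing (PowerSeries K)) x).natDegree = p := by
      rw [← IntermediateField.adjoin.finrank hint,
        adjoin_eq_top_of_notMem_range p _ _ hdeg x hxF, IntermediateField.finrank_top', hdeg]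
    exact Polynomial.eq_of_monic_of_dvd_of_natDegree_le (minpoly.monic hint) hgmon h1
      (by rw [hgdeg, h2])
  have hgirr : Irreducible g := hmin ▸ minpoly.irreducible hint
  have hnoroot : ∀ r : K, r ^ p - r + c ≠ 0 := by
    intro r hr
    have h1 : g.IsRoot (ι (PowerSeries.C r)) := by
      rw [Polynomial.IsRoot, hg, Polynomial.eval_sub, Polynomial.eval_pow, Polynomial.eval_X,
        Polynomial.eval_sub, Polynomial.eval_X, Polynomial.eval_C, ← map_pow, ← map_pow,
        ← map_sub, ← map_sub, ← map_sub, ← map_sub]
      have h2 : r ^ p - (r - c) = 0 := by rw [← hr]; ring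
      rw [h2, map_zero, map_zero]
    have h3 := Polynomial.degree_eq_one_of_irreducible_of_root hgirr h1
    have h4 : g.degree = p := by
      rw [Polynomial.degree_eq_natDegree hgmon.ne_zero, hgdeg]
    rw [h4] at h3
    have h5 : p = 1 := by exact_mod_cast h3
    exact hpp.one_lt.ne' h5
  -- Step 2: `x` comes from `B`
  have hintA : IsIntegral (PowerSeries K) x := by
    refine ⟨Polynomial.X ^ p - (Polynomial.X - Polynomial.C (PowerSeries.C c)), ?_, ?_⟩
    · apply Polynomial.monic_X_pow_sub
      rw [Polynomial.degree_X_sub_C]
      exact_mod_cast hpp.one_lt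
    · rw [Polynomial.eval₂_sub, Polynomial.eval₂_pow, Polynomial.eval₂_X, Polynomial.eval₂_sub,
        Polynomial.eval₂_X, Polynomial.eval₂_C,
        IsScalarTower.algebraMap_apply (PowerSeries K) (FractionRing (PowerSeries K))
          (FractionRing B)]
      rw [← hx]
      ring
  have hintB : IsIntegral B x := hintA.tower_top
  obtain ⟨b, hb⟩ := IsIntegrallyClosed.algebraMap_eq_of_integral hintB
  have hbeq : b ^ p - b + algebraMap (PowerSeries K) B (PowerSeries.C c) = 0 := by
    apply IsFractionRing.injective B (FractionRing B)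
    rw [map_add, map_sub, map_pow, hb, map_zero,
      ← IsScalarTower.algebraMap_apply (PowerSeries K) B (FractionRing B),
      IsScalarTower.algebraMap_apply (PowerSeries K) (FractionRing (PowerSeries K))
        (FractionRing B)]
    exact hx
  -- Step 3: the prime below `M`
  haveI : Algebra.IsIntegral (PowerSeries K) B := Algebra.IsIntegral.of_finite _ _
  haveI h𝔭max : (M.under (PowerSeries K)).IsMaximal :=
    Ideal.isMaximal_comap_of_isIntegral_of_isMaximal M
  have h𝔭 : M.under (PowerSeries K) = Ideal.span {(PowerSeries.X : PowerSeries K)} := by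
    rw [IsLocalRing.eq_maximalIdeal h𝔭max, PowerSeries.maximalIdeal_eq_span_X]
  have hXM : algebraMap (PowerSeries K) B PowerSeries.X ∈ M := by
    have h1 : (PowerSeries.X : PowerSeries K) ∈ M.under (PowerSeries K) := by
      rw [h𝔭]
      exact Ideal.mem_span_singleton_self _
    exact h1
  -- Step 4: the fundamental identity forces residue degree one
  haveI : Fintype ((M.under (PowerSeries K)).primesOver B) :=
    (Algebra.QuasiFinite.finite_primesOver (M.under (PowerSeries K))).fintype
  have hsum := Ideal.sum_ramification_inertia_eq_finrank (M.under (PowerSeries K)) B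
  have hfr : Module.finrank (PowerSeries K) B = p := by
    rw [← IsFractionRing.finrank_eq (PowerSeries K) (FractionRing (PowerSeries K)) B
      (FractionRing B), hdeg]
  rw [hfr] at hsum
  let q₀ : (M.under (PowerSeries K)).primesOver B := ⟨M, ⟨inferInstance, inferInstance⟩⟩
  have hle : (q₀ : Ideal B).ramificationIdx (PowerSeries K) *
      (q₀ : Ideal B).inertiaDeg (PowerSeries K) ≤ p := by
    rw [← hsum]
    exact Finset.single_le_sum
      (f := fun q : (M.under (PowerSeries K)).primesOver B =>
        (q : Ideal B).ramificationIdx (PowerSeries K) * (q : Ideal B).inertiaDeg (PowerSeries K))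
      (fun _ _ => Nat.zero_le _) (Finset.mem_univ q₀)
  have hq₀ : (q₀ : Ideal B) = M := rfl
  rw [hq₀, hram] at hle
  have hfpos : 0 < M.inertiaDeg (PowerSeries K) := Ideal.inertiaDeg_pos M (PowerSeries K)
  have hf1 : M.inertiaDeg (PowerSeries K) = 1 := by
    have h1 : M.inertiaDeg (PowerSeries K) ≤ 1 := by
      by_contra hcon
      push Not at hcon
      have : p * 2 ≤ p * M.inertiaDeg (PowerSeries K) := Nat.mul_le_mul_left p hcon
      have hp0 := hpp.pos
      omega
    omega
  rw [Ideal.inertiaDeg_eq_of_isMaximal (M.under (PowerSeries K)) M] at hf1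
  -- Step 5: the residue class of `b` comes from `A`
  have hsurj : Function.Surjective
      (algebraMap (PowerSeries K ⧸ M.under (PowerSeries K)) (B ⧸ M)) := by
    letI := Ideal.Quotient.field (M.under (PowerSeries K))
    haveI : Nontrivial (B ⧸ M) := Ideal.Quotient.nontrivial_iff.mpr (Ideal.IsMaximal.ne_top ‹_›)
    exact Algebra.surjective_algebraMap_iff.mpr
      (Subalgebra.bot_eq_top_of_finrank_eq_one hf1).symm
  obtain ⟨a₀', ha₀'⟩ := hsurj (Ideal.Quotient.mk M b)
  obtain ⟨a₀, rfl⟩ := Ideal.Quotient.mk_surjective a₀'
  rw [Ideal.Quotient.algebraMap_mk_of_liesOver, Ideal.Quotient.eq] at ha₀'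
  -- Step 6: replace `a₀` by its constant term
  set r := PowerSeries.constantCoeff a₀ with hr
  have hdiv : (PowerSeries.X : PowerSeries K) ∣ a₀ - PowerSeries.C r := by
    rw [PowerSeries.X_dvd_iff, map_sub, PowerSeries.constantCoeff_C, hr, sub_self]
  obtain ⟨a₁, ha₁⟩ := hdiv
  have h1 : algebraMap (PowerSeries K) B (a₀ - PowerSeries.C r) ∈ M := by
    rw [ha₁, map_mul]
    exact M.mul_mem_right _ hXM
  have hμ : b - algebraMap (PowerSeries K) B (PowerSeries.C r) ∈ M := by
    have h2 : b - algebraMap (PowerSeries K) B (PowerSeries.C r) =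
        -(algebraMap (PowerSeries K) B a₀ - b) +
          algebraMap (PowerSeries K) B (a₀ - PowerSeries.C r) := by
      rw [map_sub]
      ring
    rw [h2]
    exact M.add_mem (M.neg_mem ha₀') h1
  haveI : CharP B p :=
    charP_of_injective_algebraMap (FaithfulSMul.algebraMap_injective (PowerSeries K) B) p
  set μ := b - algebraMap (PowerSeries K) B (PowerSeries.C r) with hμdef
  have hb' : b = algebraMap (PowerSeries K) B (PowerSeries.C r) + μ := by rw [hμdef]; ring
  have hkey : algebraMap (PowerSeries K) B (PowerSeries.C (r ^ p - r + c)) = -(μ ^ p - μ) := by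
    have h3 := hbeq
    rw [hb', add_pow_char] at h3
    rw [map_add, map_sub, map_pow, map_add, map_sub, map_pow]
    linear_combination h3
  have hmem : algebraMap (PowerSeries K) B (PowerSeries.C (r ^ p - r + c)) ∈ M := by
    rw [hkey]
    exact M.neg_mem (M.sub_mem (M.pow_mem_of_mem hμ p hpp.pos) hμ)
  have hunit : IsUnit (algebraMap (PowerSeries K) B (PowerSeries.C (r ^ p - r + c))) := by
    apply IsUnit.map
    apply IsUnit.map
    exact (hnoroot r).isUnit
  exact (Ideal.IsMaximal.ne_top ‹M.IsMaximal›) (Ideal.eq_top_of_isUnit_mem M hmem hunit)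

end Groth.Agent.Lib.Helper6.ASNF
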