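import Mathlib
import Groth.Agent.Lib.Helper6.ASNF.AS3

/-!
# Artin–Schreier normal form: assembly
-/

set_option autoImplicit false
set_option linter.unusedSectionVars false
set_option linter.unusedVariables false
set_option linter.style.haveILetI false
set_option maxHeartbeats 800000

noncomputable section

namespace Groth.Agent.Lib.Helper6.ASNF

attribute [local instance] FractionRing.liftAlgebra

universe u

theorem main (p : ℕ) [hp : Fact p.Prime] (K : Type u) [Field K] [CharP K p] [PerfectField K]
    (B : Type u) [CommRing B] [IsDedekindDomain B]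
    [Algebra (PowerSeries K) B] [Module.Finite (PowerSeries K) B]
    [Module.IsTorsionFree (PowerSeries K) B]
    [IsGalois (FractionRing (PowerSeries K)) (FractionRing B)]
    (hdeg : Module.finrank (FractionRing (PowerSeries K)) (FractionRing B) = p)
    (M : Ideal B) [M.IsMaximal] (hram : M.ramificationIdx (PowerSeries K) = p) :
    ∃ x : FractionRing B, ∃ m : ℕ, ∃ a : PowerSeries K,
      IntermediateField.adjoin (FractionRing (PowerSeries K)) {x} = ⊤ ∧ 0 < m ∧ ¬ p ∣ m ∧
      PowerSeries.constantCoeff a ≠ 0 ∧
      x ^ p - x + algebraMap (FractionRing (PowerSeries K)) (FractionRing B)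
        (algebraMap (PowerSeries K) (FractionRing (PowerSeries K)) a /
          algebraMap (PowerSeries K) (FractionRing (PowerSeries K)) (PowerSeries.X ^ m)) = 0 := by
  haveI hcF := charP_fractionRing p K
  haveI hcE : CharP (FractionRing B) p :=
    charP_of_injective_algebraMap
      (algebraMap (FractionRing (PowerSeries K)) (FractionRing B)).injective p
  set ι := algebraMap (PowerSeries K) (FractionRing (PowerSeries K)) with hι
  set φ := algebraMap (FractionRing (PowerSeries K)) (FractionRing B) with hφ
  obtain ⟨x₀, β, hx₀, hx₀F⟩ :=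
    exists_AS_generator p (FractionRing (PowerSeries K)) (FractionRing B) hdeg
  obtain ⟨a₀, m₀, hrep⟩ := exists_repr K (-β)
  obtain ⟨y, hy⟩ := reduce p K m₀ a₀
  rw [← hrep] at hy
  set x : FractionRing B := x₀ + φ y with hxdef
  have hxF : x ∉ Set.range φ := by
    rintro ⟨r, hr⟩
    apply hx₀F
    refine ⟨r - y, ?_⟩
    rw [map_sub, hr, hxdef]
    ring
  have hxeq : x ^ p - x + φ (-β - (y ^ p - y)) = 0 := by
    rw [hxdef, add_pow_char, map_sub, map_neg, map_sub, map_pow, ← hx₀]
    ring
  rcases hy with ⟨c, hc⟩ | ⟨m', a', hm', hpm', ha', heq⟩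
  · exfalso
    exact no_constant p K B hdeg M hram x c (by rw [← hc]; exact hxeq) hxF
  · refine ⟨x, m', a', adjoin_eq_top_of_notMem_range p _ _ hdeg x hxF, hm', hpm', ha', ?_⟩
    rw [map_pow, ← heq]
    exact hxeq

end Groth.Agent.Lib.Helper6.ASNF
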